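import Cfsg.Agent.Lib.Grp.M23.D0

set_option autoImplicit false
set_option maxRecDepth 100000

namespace Cfsg.Agent.CG.M23

noncomputable def tabs : List ℕ := [t0,t1,t2,t3,t4,t5,t6,t7,t8,t9,t10,t11,t12,t13,t14,t15,t16,t17,t18,t19,t20,t21,t22,t23,t24,t25,t26,t27,t28,t29,t30,t31,t32,t33,t34,t35,t36,t37,t38,t39,t40,t41,t42,t43,t44,t45,t46,t47,t48,t49,t50,t51,t52,t53,t54,t55,t56,t57,t58,t59,t60,t61,t62,t63,t64]
noncomputable abbrev app : ℕ → ℕ → ℕ := appT tabs t65 0xff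
noncomputable def slpL : List (Bool × List ℕ) := [(false,[]),
  (false,[]),
  (false,[]),
  (false,[0,2]),
  (true,[3]),
  (false,[2]),
  (true,[5]),
  (false,[5,5]),
  (false,[3]),
  (true,[8]),
  (false,[3,1,3,0,6,0,1,0,2,0,1,0,6,7,5,0,2,0,1,0,2,0,5,0,4,2,4]),
  (false,[10,9,10,9,10,8,8]),
  (true,[11]),
  (false,[8,10,9,11,11,9,12]),
  (true,[13]),
  (false,[13,10,13,12,14,9,9]),
  (true,[15]),
  (false,[14,10,13,9,11,14,8,10,8]),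
  (true,[17]),
  (false,[14,8,10,14,12,13,13,11,10]),
  (true,[19]),
  (false,[11,8,10,8,8,15,12,9,10,15]),
  (true,[21]),
  (false,[18,22,18,10,15,12,8,16,16,16,10,12]),
  (true,[23]),
  (false,[20,22,10,13,10,16,8,10,11,10,14,14]),
  (true,[25]),
  (false,[24,26,22,9,14,10,8,10,14,12,15,10,13]),
  (true,[27]),
  (false,[24,25,23,25,22,20,11,10,13,15,15,8,11,9,10]),
  (true,[29]),
  (false,[28,30,26,24,9,9,15,9,10,8,13,10,9,11]),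
  (true,[31]),
  (false,[28,28,24,25,18,20,14,15,15,8,13,15,8,10,15]),
  (false,[28,28,30,23,25,24,20,22,10,14,9,15,9,11,15]),
  (false,[32,24,25,23,25,17,8,16,8,13,13,11,10,14,16]),
  (false,[30,27,23,25,23,20,22,8,12,9,16,8,14,9,10,15,8]),
  (false,[34]),
  (false,[33]),
  (false,[36,35,33]),
  (false,[36]),
  (false,[32,36,35,34,33]),
  (true,[41]),
  (false,[30,28,32]),
  (false,[25,24,29,29,32,36,33]),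
  (false,[18,23,25,23,25,28,32,35,33]),
  (false,[9,12,19,22,18,26,23,25,29,27,27,31]),
  (false,[30,32,33]),
  (false,[29,27,31,35,33]),
  (false,[23,25,23,25,29,27,27,31,36,35]),
  (false,[14,19,25,24,28,29,32,36,34,33]),
  (false,[9,12,19,22,18,26,24,35]),
  (false,[14,10,17,21,17,24,26,23,30,27,29,31,36,34,33]),
  (true,[52]),
  (false,[10,25,24,26,23,27,27,35,33]),
  (true,[54]),
  (false,[18,20,24,26,23,27,31,33]),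
  (true,[56]),
  (false,[17,20,26,23,31,35,34,33]),
  (true,[58]),
  (false,[25,24,26,23,27,27,35,33]),
  (true,[60]),
  (false,[23,26,24,35,33]),
  (false,[8,8,8,8,8]),
  (true,[63])]
noncomputable def slp (a : ℕ) : Bool × List ℕ := nth slpL (false, []) a
noncomputable def invL : List ℕ := [0,2,1,4,3,6,5,7,9,8,10,12,11,14,13,16,15,18,17,20,19,22,21,24,23,26,25,28,27,30,29,32,31,33,34,35,36,37,38,39,40,42,41,43,44,45,46,47,48,49,50,51,53,52,55,54,57,56,59,58,61,60,62,64,63]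
noncomputable def inv (a : ℕ) : ℕ := nth invL 65 a
noncomputable def bs : List ℕ := [8,176,120,104,56,152]
noncomputable def mc0 : Lvl := ⟨8, [8,9,10,11,12,13,14,15,16], 23,
  fun i => look 0xff mc0c (Nat.mul 8 i), fun i => look 0xff mc0p (Nat.mul 8 i),
  fun i => look 255 mc0l (Nat.mul 8 i), fun i => look 255 mc0i (Nat.mul 8 i), fun x => look 0xff mc0q x, 3⟩
noncomputable def mc1 : Lvl := ⟨176, [17,18,19,20,21,22], 22,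
  fun i => look 0xff mc1c (Nat.mul 8 i), fun i => look 0xff mc1p (Nat.mul 8 i),
  fun i => look 255 mc1l (Nat.mul 8 i), fun i => look 255 mc1i (Nat.mul 8 i), fun x => look 0xff mc1q x, 3⟩
noncomputable def mc2 : Lvl := ⟨120, [23,24,25,26], 21,
  fun i => look 0xff mc2c (Nat.mul 8 i), fun i => look 0xff mc2p (Nat.mul 8 i),
  fun i => look 255 mc2l (Nat.mul 8 i), fun i => look 255 mc2i (Nat.mul 8 i), fun x => look 0xff mc2q x, 4⟩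
noncomputable def mc3 : Lvl := ⟨104, [27,28,29,30], 20,
  fun i => look 0xff mc3c (Nat.mul 8 i), fun i => look 0xff mc3p (Nat.mul 8 i),
  fun i => look 255 mc3l (Nat.mul 8 i), fun i => look 255 mc3i (Nat.mul 8 i), fun x => look 0xff mc3q x, 3⟩
noncomputable def mc4 : Lvl := ⟨56, [31,32], 3,
  fun i => look 0xff mc4c (Nat.mul 8 i), fun i => look 0xf mc4p (Nat.mul 4 i),
  fun i => look 255 mc4l (Nat.mul 8 i), fun i => look 255 mc4i (Nat.mul 8 i), fun x => look 0xff mc4q x, 1⟩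
noncomputable def mc5 : Lvl := ⟨152, [33,34,35,36], 16,
  fun i => look 0xff mc5c (Nat.mul 8 i), fun i => look 0xff mc5p (Nat.mul 8 i),
  fun i => look 255 mc5l (Nat.mul 8 i), fun i => look 255 mc5i (Nat.mul 8 i), fun x => look 0xff mc5q x, 4⟩
noncomputable def mc : List Lvl := [mc0, mc1, mc2, mc3, mc4, mc5]
noncomputable def tcR : List (List ℕ) := [[37,37],
  [38,38],
  [39,39],
  [40,40],
  [37,38,37,38],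
  [37,39,37,39],
  [37,40,37,40],
  [38,39,38,39],
  [38,40,38,40],
  [39,40,39,40],
  [41,42],
  [42,41],
  [41,41,41],
  [42,37,41,39],
  [41,37,42,37,39],
  [41,40,42,38,39],
  [42,40,41,38,39,40],
  [43,43],
  [43,37,42,43,37,42],
  [43,39,43,39,43,39],
  [43,38,43,38,43,38,43,38],
  [43,38,43,37,43,38,43,39,40],
  [43,38,43,39,43,38,43,38,39],
  [44,44],
  [44,37,44,37],
  [44,40,44,40],
  [44,39,44,37,39],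
  [44,41,44,39,41],
  [44,43,44,43,44,43],
  [45,45],
  [45,37,45,37],
  [45,39,45,39],
  [45,44,45,44],
  [45,38,45,38,39],
  [45,41,45,41,45,41],
  [45,42,43,45,43,41,45,42,43,37],
  [45,43,45,37,39,43,45,39,42,43,42],
  [45,43,41,43,45,43,45,37,39,43,39],
  [45,43,40,41,43,45,39,41,43,38,43,41],
  [45,42,43,44,42,43,45,39,41,43,39,44,43],
  [46,46],
  [46,37,46,40],
  [46,38,46,38],
  [46,43,46,43],
  [46,44,46,44],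
  [46,45,46,45,46,45]]
noncomputable def tc0T : List ℕ := [0,0,0,0,0,0,0,0,0,0,0,0,0,0,0,0,0,0,0,0,0,0,0,0,0,0,0,0,0,0,0,0,0,0,0,0,0,tc0t37,tc0t38,tc0t39,tc0t40,tc0t41,tc0t42,tc0t43,tc0t44,tc0t45,tc0t46]
noncomputable def tc0r : Tr Rule := (.node (.node (.node (.node (.node (.node (.node (.leaf ⟨46,[46],40,1⟩) (.leaf ⟨45,[44,45,44],32,2⟩)) (.leaf ⟨39,[43,38,43,39,43,38,43,38],22,8⟩)) (.node (.node (.leaf ⟨39,[42,37,41],13,3⟩) (.leaf ⟨45,[37,45,37],30,0⟩)) (.leaf ⟨38,[40,38,40],8,2⟩))) (.node (.node (.node (.leaf ⟨40,[40],3,1⟩) (.leaf ⟨44,[45,44,45],32,3⟩)) (.leaf ⟨42,[38,39,41,40],15,2⟩)) (.node (.node (.leaf ⟨37,[42,37,39,41],14,1⟩) (.leaf ⟨46,[44,46,44],44,2⟩)) (.leaf ⟨43,[39,43,39,43,39],19,2⟩)))) (.node (.node (.node (.node (.leaf ⟨43,[43],17,1⟩) (.leaf ⟨39,[44,37,39,44],26,1⟩)) (.leaf ⟨42,[45,43,45,37,39,43,45,39,42,43],36,10⟩))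 (.node (.node (.leaf ⟨39,[40,43,38,43,37,43,38,43],21,7⟩) (.leaf ⟨46,[43,46,43],43,2⟩)) (.leaf ⟨40,[39,40,39],9,3⟩))) (.node (.node (.node (.leaf ⟨38,[39,38,39],7,2⟩) (.leaf ⟨44,[42,43,45,39,41,43,39,44,43,45,42,43],39,3⟩)) (.leaf ⟨38,[43,41,45,43,40,41,43,45,39,41,43],38,9⟩)) (.node (.leaf ⟨41,[41,41],12,1⟩) (.leaf ⟨45,[38,45,38,39],33,0⟩))))) (.node (.node (.node (.node (.node (.leaf ⟨42,[41],10,1⟩) (.leaf ⟨37,[44,37,44],24,3⟩)) (.leaf ⟨40,[44,40,44],25,3⟩)) (.node (.node (.leaf ⟨38,[46,38,46],42,3⟩) (.leaf ⟨44,[39,44,37,39],26,0⟩)) (.leaf ⟨39,[40,39,40],9,2⟩))) (.node (.node (.node (.leaf ⟨41,[41,41],12,2⟩) (.leaf ⟨43,[44,43,44,43,44],28,3⟩)) (.leaf ⟨43,[37,42,43,37,42],18,3⟩)) (.node (.leaf ⟨43,[39,43,39,43,39],19,4⟩) (.leaf ⟨45,[42,43,45,43,41,45,42,43,37],35,0⟩)))) (.node (.node (.node (.node (.leaf ⟨38,[38],1,1⟩)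 (.leaf ⟨38,[39,41,40,42],15,3⟩)) (.leaf ⟨41,[39,42,37],13,2⟩)) (.node (.node (.leaf ⟨37,[41,39,42],13,1⟩) (.leaf ⟨46,[37,46,40],41,0⟩)) (.leaf ⟨40,[39,40,39],9,1⟩))) (.node (.node (.node (.leaf ⟨37,[46,40,46],41,1⟩) (.leaf ⟨44,[40,44,40],25,2⟩)) (.leaf ⟨45,[41,45,41,45,41],34,4⟩)) (.node (.leaf ⟨41,[37,42,37,39],14,0⟩) (.leaf ⟨40,[42,40,41,38,39],16,5⟩)))))) (.node (.node (.node (.node (.node (.node (.leaf ⟨45,[45],29,1⟩) (.leaf ⟨37,[43,38,43,39,40,43,38,43],21,3⟩)) (.leaf ⟨40,[43,38,43,37,43,38,43,39],21,8⟩)) (.node (.node (.leaf ⟨37,[42,43,37,42,43],18,4⟩) (.leaf ⟨44,[37,39,44,39],26,2⟩)) (.leaf ⟨40,[38,40,38],8,3⟩))) (.node (.node (.node (.leaf ⟨44,[44],23,1⟩) (.leaf ⟨44,[39,41,44,41],27,2⟩)) (.leaf ⟨45,[38,39,45,38],33,2⟩)) (.node (.leaf ⟨40,[42,38,39,41],15,1⟩) (.leaf ⟨43,[37,42,43,37,42],18,0⟩)))) (.node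 (.node (.node (.node (.leaf ⟨37,[37],0,1⟩) (.leaf ⟨41,[44,41,44,39],27,4⟩)) (.leaf ⟨43,[45,43,45,37,39,43,39,45,43,41],37,3⟩)) (.node (.node (.leaf ⟨39,[45,39,45],31,3⟩) (.leaf ⟨46,[40,46,37],41,2⟩)) (.leaf ⟨42,[37,41,39],13,0⟩))) (.node (.node (.node (.leaf ⟨40,[46,37,46],41,3⟩) (.leaf ⟨37,[39,37,39],5,2⟩)) (.leaf ⟨38,[37,38,37],4,3⟩)) (.node (.leaf ⟨37,[39,37,39],5,0⟩) (.leaf ⟨38,[39,43,38,43,39,43,38,43],22,7⟩))))) (.node (.node (.node (.node (.node (.leaf ⟨41,[42],10,0⟩) (.leaf ⟨42,[43,37,42,43,37],18,2⟩)) (.leaf ⟨39,[42,43,42,45,43,45,37,39,43,45],36,7⟩)) (.node (.node (.leaf ⟨43,[46,43,46],43,3⟩) (.leaf ⟨46,[45,46,45,46,45],45,4⟩)) (.leaf ⟨39,[38,39,38],7,1⟩))) (.node (.node (.node (.leaf ⟨37,[38,37,38],4,2⟩) (.leaf ⟨39,[44,43,45,42,43,44,42,43,45,39,41,43],39,10⟩)) (.leaf ⟨41,[43,45,43,45,37,39,43,39,45,43],37,2⟩))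 (.node (.leaf ⟨42,[43,37,42,43,37],18,5⟩) (.leaf ⟨45,[37,45,37],30,2⟩)))) (.node (.node (.node (.node (.leaf ⟨39,[39],2,1⟩) (.leaf ⟨44,[46,44,46],44,3⟩)) (.leaf ⟨45,[39,45,39],31,2⟩)) (.node (.node (.leaf ⟨38,[45,38,39,45],33,1⟩) (.leaf ⟨46,[38,46,38],42,2⟩)) (.leaf ⟨45,[39,45,39],31,0⟩))) (.node (.node (.node (.leaf ⟨37,[45,37,45],30,3⟩) (.leaf ⟨44,[37,44,37],24,2⟩)) (.leaf ⟨40,[37,40,37],6,3⟩)) (.node (.leaf ⟨38,[43,38,43,38,43,38,43],20,5⟩) (.leaf ⟨45,[43,41,45,42,43,37,45,42,43],35,3⟩)))))))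
noncomputable def tc0 : TCL := ⟨[37,38,39,40,41,42,43,44,45,46], [37,38,39,40,41,42,43,44,45], 23, 24, 0x3ff, 10, 0x7f,
  fun a x => look 0xffffff (nth tc0T 0 a) x, fun x => look 0xffffff tc0d x, tc0r⟩
noncomputable def tc1T : List ℕ := [0,0,0,0,0,0,0,0,0,0,0,0,0,0,0,0,0,0,0,0,0,0,0,0,0,0,0,0,0,0,0,0,0,0,0,0,0,tc1t37,tc1t38,tc1t39,tc1t40,tc1t41,tc1t42,tc1t43,tc1t44,tc1t45]
noncomputable def tc1r : Tr Rule := (.node (.node (.node (.node (.node (.node (.node (.leaf ⟨45,[45],29,1⟩) (.leaf ⟨45,[41,45,41,45,41],34,0⟩)) (.leaf ⟨38,[43,38,43,38,43,38,43],20,5⟩)) (.node (.leaf ⟨37,[41,39,42],13,1⟩) (.leaf ⟨45,[38,39,45,38],33,2⟩))) (.node (.node (.node (.leaf ⟨44,[44],23,1⟩) (.leaf ⟨37,[39,37,39],5,2⟩)) (.leaf ⟨45,[42,43,37,45,42,43,45,43,41],35,6⟩)) (.node (.leaf ⟨44,[39,41,44,41],27,2⟩) (.leaf ⟨40,[37,40,37],6,3⟩))))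 (.node (.node (.node (.node (.leaf ⟨37,[37],0,1⟩) (.leaf ⟨39,[44,43,45,42,43,44,42,43,45,39,41,43],39,10⟩)) (.leaf ⟨37,[44,37,44],24,3⟩)) (.node (.leaf ⟨41,[41,41],12,1⟩) (.leaf ⟨38,[43,41,45,43,40,41,43,45,39,41,43],38,9⟩))) (.node (.node (.node (.leaf ⟨37,[45,37,45],30,3⟩) (.leaf ⟨45,[37,45,37],30,0⟩)) (.leaf ⟨37,[39,43,45,39,42,43,42,45,43,45],36,3⟩)) (.node (.leaf ⟨40,[44,40,44],25,3⟩) (.leaf ⟨40,[39,40,39],9,3⟩))))) (.node (.node (.node (.node (.node (.leaf ⟨41,[42],10,0⟩) (.leaf ⟨41,[44,41,44,39],27,4⟩)) (.leaf ⟨39,[43,38,43,38,39,43,38,43],22,3⟩)) (.node (.leaf ⟨43,[39,43,39,43,39],19,4⟩) (.leaf ⟨43,[45,43,45,37,39,43,39,45,43,41],37,3⟩))) (.node (.node (.node (.leaf ⟨37,[38,37,38],4,2⟩) (.leaf ⟨44,[40,44,40],25,2⟩)) (.leaf ⟨45,[39,45,39],31,2⟩)) (.node (.leaf ⟨38,[39,45,38,45],33,3⟩) (.leaf ⟨38,[40,38,40],8,2⟩))))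 (.node (.node (.node (.node (.leaf ⟨39,[39],2,1⟩) (.leaf ⟨42,[43,44,42,43,45,39,41,43,39,44,43,45],39,1⟩)) (.leaf ⟨40,[43,38,43,37,43,38,43,39],21,8⟩)) (.node (.leaf ⟨41,[37,42,37,39],14,0⟩) (.leaf ⟨40,[41,43,45,39,41,43,38,43,41,45,43],38,2⟩))) (.node (.node (.leaf ⟨37,[42,43,37,42,43],18,4⟩) (.leaf ⟨41,[39,42,37],13,2⟩)) (.node (.leaf ⟨38,[39,41,40,42],15,3⟩) (.leaf ⟨42,[37,41,39],13,0⟩)))))) (.node (.node (.node (.node (.node (.node (.leaf ⟨42,[41],10,1⟩) (.leaf ⟨43,[39,43,39,43,39],19,2⟩)) (.leaf ⟨43,[38,39,43,38,43,39,43,38],22,6⟩)) (.node (.leaf ⟨37,[42,37,39,41],14,1⟩) (.leaf ⟨43,[37,42,43,37,42],18,3⟩))) (.node (.node (.node (.leaf ⟨41,[41,41],12,2⟩) (.leaf ⟨40,[39,40,39],9,1⟩)) (.leaf ⟨45,[43,41,45,42,43,37,45,42,43],35,3⟩)) (.node (.leaf ⟨43,[44,43,44,43,44],28,3⟩) (.leaf ⟨39,[40,39,40],9,2⟩)))) (.node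 (.node (.node (.node (.leaf ⟨38,[38],1,1⟩) (.leaf ⟨44,[42,43,45,39,41,43,39,44,43,45,42,43],39,3⟩)) (.leaf ⟨39,[44,37,39,44],26,1⟩)) (.node (.leaf ⟨37,[39,37,39],5,0⟩) (.leaf ⟨41,[43,45,39,41,43,38,43,41,45,43,40],38,3⟩))) (.node (.node (.leaf ⟨39,[42,37,41],13,3⟩) (.leaf ⟨42,[45,43,45,37,39,43,45,39,42,43],36,10⟩)) (.node (.leaf ⟨38,[39,40,42,40,41],16,3⟩) (.leaf ⟨39,[38,39,38],7,1⟩))))) (.node (.node (.node (.node (.node (.leaf ⟨43,[43],17,1⟩) (.leaf ⟨45,[44,45,44],32,2⟩)) (.leaf ⟨37,[43,38,43,39,40,43,38,43],21,3⟩)) (.node (.leaf ⟨42,[43,37,42,43,37],18,5⟩) (.leaf ⟨43,[45,37,39,43,39,45,43,41,43,45],37,5⟩))) (.node (.node (.node (.leaf ⟨38,[39,38,39],7,2⟩) (.leaf ⟨44,[37,44,37],24,2⟩)) (.leaf ⟨39,[42,43,42,45,43,45,37,39,43,45],36,7⟩)) (.node (.leaf ⟨40,[42,38,39,41],15,1⟩) (.leaf ⟨37,[40,37,40],6,2⟩)))) (.node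 (.node (.node (.node (.leaf ⟨40,[40],3,1⟩) (.leaf ⟨44,[43,45,42,43,44,42,43,45,39,41,43,39],39,11⟩)) (.leaf ⟨45,[41,45,41,45,41],34,4⟩)) (.node (.leaf ⟨44,[45,44,45],32,3⟩) (.leaf ⟨40,[38,40,38],8,1⟩))) (.node (.node (.leaf ⟨39,[45,39,45],31,3⟩) (.leaf ⟨42,[38,39,41,40],15,2⟩)) (.node (.leaf ⟨40,[42,40,41,38,39],16,5⟩) (.leaf ⟨45,[39,45,39],31,0⟩)))))))
noncomputable def tc1 : TCL := ⟨[37,38,39,40,41,42,43,44,45], [37,38,39,40,41,42,43,44], 22, 24, 0x3ff, 10, 0x7f,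
  fun a x => look 0xffffff (nth tc1T 0 a) x, fun x => look 0xffffff tc1d x, tc1r⟩
noncomputable def tc2T : List ℕ := [0,0,0,0,0,0,0,0,0,0,0,0,0,0,0,0,0,0,0,0,0,0,0,0,0,0,0,0,0,0,0,0,0,0,0,0,0,tc2t37,tc2t38,tc2t39,tc2t40,tc2t41,tc2t42,tc2t43,tc2t44]
noncomputable def tc2r : Tr Rule := (.node (.node (.node (.node (.node (.node (.leaf ⟨44,[44],23,1⟩) (.leaf ⟨41,[38,39,40,42,40],16,2⟩)) (.node (.leaf ⟨43,[39,43,39,43,39],19,4⟩) (.leaf ⟨40,[42,40,41,38,39],16,5⟩))) (.node (.node (.leaf ⟨37,[38,37,38],4,2⟩) (.leaf ⟨37,[41,39,42],13,1⟩)) (.node (.leaf ⟨39,[38,39,38],7,3⟩) (.leaf ⟨40,[44,40,44],25,1⟩)))) (.node (.node (.node (.leaf ⟨39,[39],2,1⟩) (.leaf ⟨43,[39,40,43,38,43,37,43,38],21,6⟩)) (.node (.leaf ⟨38,[39,41,40,42],15,3⟩) (.leaf ⟨44,[37,39,44,39],26,2⟩))) (.node (.node (.leaf ⟨41,[41,41],12,2⟩) (.leaf ⟨37,[42,37,39,41],14,1⟩))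 (.leaf ⟨38,[39,40,42,40,41],16,3⟩)))) (.node (.node (.node (.node (.leaf ⟨37,[37],0,1⟩) (.leaf ⟨43,[37,42,43,37,42],18,0⟩)) (.node (.leaf ⟨39,[42,37,41],13,3⟩) (.leaf ⟨44,[37,44,37],24,2⟩))) (.node (.node (.leaf ⟨38,[39,38,39],7,2⟩) (.leaf ⟨38,[37,38,37],4,3⟩)) (.leaf ⟨42,[37,41,39],13,0⟩))) (.node (.node (.node (.leaf ⟨42,[41],10,1⟩) (.leaf ⟨43,[38,39,43,38,43,39,43,38],22,6⟩)) (.node (.leaf ⟨41,[41,41],12,1⟩) (.leaf ⟨44,[39,41,44,41],27,2⟩))) (.node (.node (.leaf ⟨40,[44,40,44],25,3⟩) (.leaf ⟨43,[39,43,39,43,39],19,2⟩)) (.leaf ⟨43,[37,42,43,37,42],18,3⟩))))) (.node (.node (.node (.node (.node (.leaf ⟨43,[43],17,1⟩) (.leaf ⟨40,[39,40,39],9,3⟩)) (.node (.leaf ⟨37,[43,38,43,39,40,43,38,43],21,3⟩) (.leaf ⟨44,[43,44,43,44,43],28,4⟩))) (.node (.node (.leaf ⟨37,[40,37,40],6,2⟩) (.leaf ⟨42,[43,37,42,43,37],18,2⟩)) (.node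 (.leaf ⟨39,[40,39,40],9,2⟩) (.leaf ⟨39,[37,39,37],5,3⟩)))) (.node (.node (.node (.leaf ⟨40,[40],3,1⟩) (.leaf ⟨43,[38,43,37,43,38,43,39,40],21,0⟩)) (.node (.leaf ⟨42,[43,37,42,43,37],18,5⟩) (.leaf ⟨44,[39,44,37,39],26,0⟩))) (.node (.node (.leaf ⟨37,[44,37,44],24,3⟩) (.leaf ⟨40,[42,38,39,41],15,1⟩)) (.leaf ⟨40,[38,40,38],8,3⟩)))) (.node (.node (.node (.node (.leaf ⟨38,[38],1,1⟩) (.leaf ⟨38,[43,38,43,38,43,38,43],20,5⟩)) (.node (.leaf ⟨41,[44,41,44,39],27,4⟩) (.leaf ⟨44,[40,44,40],25,2⟩))) (.node (.node (.leaf ⟨38,[40,38,40],8,2⟩) (.leaf ⟨40,[37,40,37],6,3⟩)) (.leaf ⟨41,[40,42,38,39],15,0⟩))) (.node (.node (.node (.leaf ⟨41,[42],10,0⟩) (.leaf ⟨39,[43,38,43,38,39,43,38,43],22,3⟩)) (.node (.leaf ⟨37,[39,37,39],5,0⟩) (.leaf ⟨44,[41,44,39,41],27,0⟩))) (.node (.node (.leaf ⟨39,[44,39,44,37],26,4⟩) (.leaf ⟨38,[43,37,43,38,43,39,40,43],21,1⟩))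 (.leaf ⟨42,[38,39,41,40],15,2⟩))))))
noncomputable def tc2 : TCL := ⟨[37,38,39,40,41,42,43,44], [37,38,39,40,41,42,43], 21, 20, 0x1ff, 9, 0x3f,
  fun a x => look 0xfffff (nth tc2T 0 a) x, fun x => look 0xfffff tc2d x, tc2r⟩
noncomputable def tc3T : List ℕ := [0,0,0,0,0,0,0,0,0,0,0,0,0,0,0,0,0,0,0,0,0,0,0,0,0,0,0,0,0,0,0,0,0,0,0,0,0,tc3t37,tc3t38,tc3t39,tc3t40,tc3t41,tc3t42,tc3t43]
noncomputable def tc3r : Tr Rule := (.node (.node (.node (.node (.node (.node (.leaf ⟨43,[43],17,1⟩) (.leaf ⟨43,[38,43,37,43,38,43,39,40],21,0⟩)) (.leaf ⟨37,[39,37,39],5,0⟩)) (.node (.node (.leaf ⟨37,[40,37,40],6,2⟩) (.leaf ⟨37,[41,39,42],13,1⟩)) (.leaf ⟨42,[38,39,41,40],15,2⟩))) (.node (.node (.node (.leaf ⟨40,[40],3,1⟩) (.leaf ⟨38,[43,38,39,43,38,43,39,43],22,5⟩)) (.leaf ⟨41,[40,42,38,39],15,0⟩)) (.node (.node (.leaf ⟨41,[41,41],12,2⟩)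 (.leaf ⟨40,[42,40,41,38,39],16,5⟩)) (.leaf ⟨43,[37,42,43,37,42],18,3⟩)))) (.node (.node (.node (.node (.leaf ⟨38,[38],1,1⟩) (.leaf ⟨43,[38,39,43,38,43,39,43,38],22,6⟩)) (.leaf ⟨39,[40,39,40],9,2⟩)) (.node (.node (.leaf ⟨38,[40,38,40],8,2⟩) (.leaf ⟨37,[42,37,39,41],14,1⟩)) (.leaf ⟨40,[39,40,39],9,3⟩))) (.node (.node (.node (.leaf ⟨41,[42],10,0⟩) (.leaf ⟨43,[38,43,38,39,43,38,43,39],22,4⟩)) (.leaf ⟨40,[38,40,38],8,3⟩)) (.node (.leaf ⟨41,[41,41],12,1⟩) (.leaf ⟨43,[39,40,43,38,43,37,43,38],21,6⟩))))) (.node (.node (.node (.node (.node (.leaf ⟨37,[37],0,1⟩) (.leaf ⟨38,[43,39,40,43,38,43,37,43],21,5⟩)) (.leaf ⟨39,[38,39,38],7,3⟩)) (.node (.node (.leaf ⟨38,[39,38,39],7,2⟩) (.leaf ⟨37,[38,37,38],4,0⟩)) (.leaf ⟨41,[38,39,40,42,40],16,2⟩))) (.node (.node (.node (.leaf ⟨42,[41],10,1⟩) (.leaf ⟨38,[43,39,43,38,43,38,39,43],22,1⟩))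 (.leaf ⟨38,[39,40,42,40,41],16,3⟩)) (.node (.node (.leaf ⟨42,[43,37,42,43,37],18,5⟩) (.leaf ⟨38,[39,41,40,42],15,3⟩)) (.leaf ⟨38,[43,38,43,38,43,38,43],20,5⟩)))) (.node (.node (.node (.node (.leaf ⟨39,[39],2,1⟩) (.leaf ⟨39,[43,38,43,38,39,43,38,43],22,3⟩)) (.leaf ⟨42,[37,41,39],13,0⟩)) (.node (.node (.leaf ⟨37,[40,37,40],6,0⟩) (.leaf ⟨40,[42,38,39,41],15,1⟩)) (.leaf ⟨43,[39,43,39,43,39],19,4⟩))) (.node (.node (.node (.leaf ⟨37,[38,37,38],4,2⟩) (.leaf ⟨43,[39,43,38,43,38,39,43,38],22,2⟩)) (.leaf ⟨41,[39,42,37],13,2⟩)) (.node (.leaf ⟨39,[42,37,41],13,3⟩) (.leaf ⟨37,[43,38,43,39,40,43,38,43],21,3⟩))))))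
noncomputable def tc3 : TCL := ⟨[37,38,39,40,41,42,43], [37,38,39,40,41,42], 20, 20, 0x1ff, 9, 0x3f,
  fun a x => look 0xfffff (nth tc3T 0 a) x, fun x => look 0xfffff tc3d x, tc3r⟩
noncomputable def tc4T : List ℕ := [0,0,0,0,0,0,0,0,0,0,0,0,0,0,0,0,0,0,0,0,0,0,0,0,0,0,0,0,0,0,0,0,0,0,0,0,0,tc4t37,tc4t38,tc4t39,tc4t40,tc4t41,tc4t42]
noncomputable def tc4r : Tr Rule := (.node (.node (.node (.node (.leaf ⟨42,[41],10,1⟩) (.leaf ⟨40,[42,38,39,41],15,1⟩)) (.leaf ⟨37,[41,39,42],13,1⟩)) (.node (.node (.leaf ⟨41,[41,41],12,2⟩) (.leaf ⟨40,[41,38,39,40,42],16,1⟩)) (.leaf ⟨37,[39,41,37,42],14,3⟩))) (.node (.node (.node (.leaf ⟨41,[42],10,0⟩) (.leaf ⟨38,[39,40,42,40,41],16,3⟩)) (.leaf ⟨39,[41,37,42,37],14,4⟩)) (.node (.leaf ⟨39,[42,37,41],13,3⟩) (.leaf ⟨38,[39,41,40,42],15,3⟩))))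
noncomputable def tc4 : TCL := ⟨[37,38,39,40,41,42], [37,38,39,40], 3, 16, 0x3f, 6, 0xf,
  fun a x => look 0xffff (nth tc4T 0 a) x, fun x => look 0xffff tc4d x, tc4r⟩
noncomputable def tc5T : List ℕ := [0,0,0,0,0,0,0,0,0,0,0,0,0,0,0,0,0,0,0,0,0,0,0,0,0,0,0,0,0,0,0,0,0,0,0,0,0,tc5t37,tc5t38,tc5t39,tc5t40]
noncomputable def tc5r : Tr Rule := (.node (.node (.node (.node (.leaf ⟨37,[37],0,1⟩) (.leaf ⟨38,[40,38,40],8,2⟩)) (.leaf ⟨37,[38,37,38],4,2⟩)) (.node (.leaf ⟨39,[39],2,1⟩) (.leaf ⟨37,[40,37,40],6,2⟩))) (.node (.node (.node (.leaf ⟨38,[38],1,1⟩) (.leaf ⟨39,[40,39,40],9,2⟩)) (.leaf ⟨37,[39,37,39],5,2⟩)) (.node (.leaf ⟨40,[40],3,1⟩) (.leaf ⟨38,[39,38,39],7,2⟩))))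
noncomputable def tc5 : TCL := ⟨[37,38,39,40], [], 16, 20, 0x1ff, 9, 0xf,
  fun a x => look 0xfffff (nth tc5T 0 a) x, fun x => look 0xfffff tc5d x, tc5r⟩
noncomputable def tc : List TCL := [tc0, tc1, tc2, tc3, tc4, tc5]
noncomputable def inW : List (List ℕ) := [[43,40,43,44,41,43,40,39,38],
  [43,38,43,45,46,38,43,45,43,38,43,39,37],
  [43,38,43,45,46,43,42,45,43,38,43,42,38,37]]
noncomputable def tcS : List ℕ := [37,38,39,40,41,42,43,44,45,46]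

end Cfsg.Agent.CG.M23
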