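import Cfsg.Agent.Lib.Grp.M23.ODefs

set_option autoImplicit false
set_option maxRecDepth 100000

namespace Cfsg.Agent.CG.M23

theorem Oc136 : cc0.chk (appT tabs t65 0xff) 1 15 = true := by decide +kernel
theorem Oc137 : cc1.chk (appT tabs t65 0xff) 1 13 = true := by decide +kernel
theorem Oc138 : cc2.chk (appT tabs t65 0xff) 1 11 = true := by decide +kernel
theorem Oc139 : okcb 23 8 (bases cc) = true := by decide +kernel
theorem Oc140 : headAll (appT tabs t65 0xff) cc [] = true := by decide +kernel
theorem Oc141 : tp0.head tpR = true := by decide +kernel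
theorem Oc142 : allL (fun a => tp0.chk a 0 tp0.N) tp0.S = true := by decide +kernel
theorem Oc143 : tp1.head tpR = true := by decide +kernel
theorem Oc144 : allL (fun a => tp1.chk a 0 tp1.N) tp1.S = true := by decide +kernel
theorem Oc145 : tp2.head tpR = true := by decide +kernel
theorem Oc146 : allL (fun a => tp2.chk a 0 tp2.N) tp2.S = true := by decide +kernel
theorem Oc147 : tcLink tp [] [47,48,49,50] = true := by decide +kernel
theorem Oc148 : pc0.chk (appT tabs t65 0xff) 1 15 = true := by decide +kernel
theorem Oc149 : pc1.chk (appT tabs t65 0xff) 1 1 = true := by decide +kernel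
theorem Oc150 : pc2.chk (appT tabs t65 0xff) 1 3 = true := by decide +kernel
theorem Oc151 : okcb 23 8 (bases pc) = true := by decide +kernel
theorem Oc152 : headAll (appT tabs t65 0xff) pc [] = true := by decide +kernel
theorem Oc153 : allL (fun v => eqW (appT tabs t65 0xff) bs v []) tpR = true := by decide +kernel
theorem Oc154 : trChk (appT tabs t65 0xff) mc0 [mc1, mc2, mc3, mc4, mc5] bs (diagQ pQ) (diagQ pR) pF 0 23 = true := by decide +kernel
theorem Oc155 : classChk (appT tabs t65 0xff) bs 10 2 51 [15,8,17,21,17,25,23,25,28,32,35] pS pF pU = true := by decide +kernel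
theorem Oc156 : powChk (appT tabs t65 0xff) bs 8 23 aK nK = true := by decide +kernel
theorem Oc157 : en.chk (appT tabs t65 0xff) tst 0 3795 0 194237749041273 = true := by decide +kernel
theorem Oc158 : commAll (appT tabs t65 0xff) bs 10 cc = true := by decide +kernel
theorem Oc159 : relChk (appT tabs t65 0xff) bs 8 10 rT = true := by decide +kernel

end Cfsg.Agent.CG.M23
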