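import Cfsg.Agent.Lib.Grp.M23.OD1
import Cfsg.Agent.Lib.Grp.M23.Defs

set_option autoImplicit false
set_option maxRecDepth 100000

namespace Cfsg.Agent.CG.M23

noncomputable def cc0 : Lvl := ⟨8, [52,53,54,55], 16,
  fun i => look 0xff cc0c (Nat.mul 8 i), fun i => look 0xff cc0p (Nat.mul 8 i),
  fun i => look 255 cc0l (Nat.mul 8 i), fun i => look 255 cc0i (Nat.mul 8 i), fun x => look 0xff cc0q x, 3⟩
noncomputable def cc1 : Lvl := ⟨176, [56,57,58,59], 14,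
  fun i => look 0xff cc1c (Nat.mul 8 i), fun i => look 0xf cc1p (Nat.mul 4 i),
  fun i => look 255 cc1l (Nat.mul 8 i), fun i => look 255 cc1i (Nat.mul 8 i), fun x => look 0xff cc1q x, 3⟩
noncomputable def cc2 : Lvl := ⟨120, [60,61,62], 12,
  fun i => look 0xff cc2c (Nat.mul 8 i), fun i => look 0xf cc2p (Nat.mul 4 i),
  fun i => look 255 cc2l (Nat.mul 8 i), fun i => look 255 cc2i (Nat.mul 8 i), fun x => look 0xff cc2q x, 3⟩
noncomputable def cc : List Lvl := [cc0, cc1, cc2]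
noncomputable def pc0 : Lvl := ⟨8, [47,48,49,50], 16,
  fun i => look 0xff pc0c (Nat.mul 8 i), fun i => look 0xff pc0p (Nat.mul 8 i),
  fun i => look 255 pc0l (Nat.mul 8 i), fun i => look 255 pc0i (Nat.mul 8 i), fun x => look 0xff pc0q x, 4⟩
noncomputable def pc1 : Lvl := ⟨120, [49], 2,
  fun i => look 0xff pc1c (Nat.mul 8 i), fun i => look 0xf pc1p (Nat.mul 4 i),
  fun i => look 255 pc1l (Nat.mul 8 i), fun i => look 255 pc1i (Nat.mul 8 i), fun x => look 0xff pc1q x, 1⟩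
noncomputable def pc2 : Lvl := ⟨104, [47,48], 4,
  fun i => look 0xff pc2c (Nat.mul 8 i), fun i => look 0xf pc2p (Nat.mul 4 i),
  fun i => look 255 pc2l (Nat.mul 8 i), fun i => look 255 pc2i (Nat.mul 8 i), fun x => look 0xff pc2q x, 2⟩
noncomputable def pc : List Lvl := [pc0, pc1, pc2]
noncomputable def tpR : List (List ℕ) := [[47,47],
  [48,48],
  [47,48,47,48],
  [49,49],
  [49,47,49,48],
  [50,50],
  [50,47,50,47,50,47,50,47],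
  [50,48,50,47,50,48,50,47],
  [50,48,50,48,50,48,50,48],
  [50,49,50,49,50,49,50,49],
  [50,48,50,49,50,48,50,47,48,49],
  [50,47,49,50,47,50,49,50,47,48]]
noncomputable def tp0T : List ℕ := [0,0,0,0,0,0,0,0,0,0,0,0,0,0,0,0,0,0,0,0,0,0,0,0,0,0,0,0,0,0,0,0,0,0,0,0,0,0,0,0,0,0,0,0,0,0,0,tp0t47,tp0t48,tp0t49,tp0t50]
noncomputable def tp0r : Tr Rule := (.node (.node (.node (.node (.node (.leaf ⟨50,[50],5,1⟩) (.leaf ⟨50,[48,50,47,48,49,50,48,50,49],10,4⟩)) (.leaf ⟨48,[50,47,50,48,50,47,50],7,5⟩)) (.node (.node (.leaf ⟨47,[48,47,48],2,2⟩) (.leaf ⟨49,[47,49,48],4,0⟩)) (.leaf ⟨49,[50,49,50,49,50,49,50],9,5⟩))) (.node (.node (.node (.leaf ⟨48,[48],1,1⟩) (.leaf ⟨47,[50,49,50,47,48,50,47,49,50],11,4⟩)) (.leaf ⟨48,[50,48,50,48,50,48,50],8,5⟩)) (.node (.leaf ⟨47,[49,48,49],4,1⟩) (.leaf ⟨49,[50,48,50,47,48,49,50,48,50],10,3⟩)))) (.node (.node (.node (.node (.leaf ⟨47,[47],0,1⟩)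 (.leaf ⟨49,[50,47,48,50,47,49,50,47,50],11,6⟩)) (.leaf ⟨47,[50,48,50,47,50,48,50],7,3⟩)) (.node (.leaf ⟨48,[49,47,49],4,3⟩) (.leaf ⟨50,[47,48,49,50,48,50,49,50,48],10,6⟩))) (.node (.node (.node (.leaf ⟨49,[49],3,1⟩) (.leaf ⟨47,[48,50,47,49,50,47,50,49,50],11,8⟩)) (.leaf ⟨48,[50,48,50,48,50,48,50],8,3⟩)) (.node (.leaf ⟨47,[50,47,50,47,50,47,50],6,5⟩) (.leaf ⟨48,[50,47,48,49,50,48,50,49,50],10,5⟩)))))
noncomputable def tp0 : TCL := ⟨[47,48,49,50], [47,48,49], 16, 20, 0x1ff, 9, 0x1f,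
  fun a x => look 0xfffff (nth tp0T 0 a) x, fun x => look 0xfffff tp0d x, tp0r⟩
noncomputable def tp1T : List ℕ := [0,0,0,0,0,0,0,0,0,0,0,0,0,0,0,0,0,0,0,0,0,0,0,0,0,0,0,0,0,0,0,0,0,0,0,0,0,0,0,0,0,0,0,0,0,0,0,tp1t47,tp1t48,tp1t49]
noncomputable def tp1r : Tr Rule := (.node (.node (.leaf ⟨49,[49],3,1⟩) (.leaf ⟨47,[49,48,49],4,1⟩)) (.leaf ⟨48,[49,47,49],4,3⟩))
noncomputable def tp1 : TCL := ⟨[47,48,49], [47,48], 2, 16, 0x3f, 6, 0x7,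
  fun a x => look 0xffff (nth tp1T 0 a) x, fun x => look 0xffff tp1d x, tp1r⟩
noncomputable def tp2T : List ℕ := [0,0,0,0,0,0,0,0,0,0,0,0,0,0,0,0,0,0,0,0,0,0,0,0,0,0,0,0,0,0,0,0,0,0,0,0,0,0,0,0,0,0,0,0,0,0,0,tp2t47,tp2t48]
noncomputable def tp2r : Tr Rule := (.node (.node (.leaf ⟨47,[47],0,1⟩) (.leaf ⟨47,[48,47,48],2,2⟩)) (.leaf ⟨48,[48],1,1⟩))
noncomputable def tp2 : TCL := ⟨[47,48], [], 4, 16, 0x7f, 7, 0x7,
  fun a x => look 0xffff (nth tp2T 0 a) x, fun x => look 0xffff tp2d x, tp2r⟩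
noncomputable def tp : List TCL := [tp0, tp1, tp2]
noncomputable def pS : List ℕ := [47,48,49,50]
noncomputable def pQ : List (List ℕ) := [[],
  [50,48,50],
  [50,47,50],
  [50,49,48,50],
  [49,50],
  [49,47,50]]
noncomputable def pR : List (List ℕ) := [[47],
  [48],
  [49],
  [50]]
noncomputable def pF : List (List ℕ) := [[],
  [9,12,19,22,18,26,24,35]]
noncomputable def pU : List (List ℕ) := [[14,19,21,25,30,27,32,34,33]]
noncomputable def aK : List ℕ := [8,63]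
noncomputable def nK : List (List ℕ × ℕ) := [([],0),
  ([],8),
  ([10,17,19,26,23,29,27,32,36,34,33],8),
  ([10,9,21,17,25,24],8),
  ([15,22,18,26,24,28,30,28,35,34],8),
  ([],63),
  ([9,19,17,24,29,27,27,31,35,34,33],8),
  ([9,19,17,24,29,27,27,31,35,34,33],63),
  ([13,10,18,26,24,26,23,28,30,35,34],8),
  ([8,8,19,22,18,25,28,29,32,33],8),
  ([10,17,19,26,23,29,27,32,36,34,33],63),
  ([14,10,21,19,23,25,23,25,28,30,28,31,36,35,34,33],63),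
  ([13,13,17,21,17,26,23,27,29,32,36,34,33],8),
  ([14,17,24,26,23,28,36,34,33],8),
  ([13,13,17,21,17,26,23,27,29,32,36,34,33],63),
  ([10,9,21,17,25,24],63),
  ([14,10,21,19,23,25,23,25,28,30,28,31,36,35,34,33],8),
  ([13,10,18,26,24,26,23,28,30,35,34],63),
  ([8,10,22,20,26,24,28,31],8),
  ([14,17,24,26,23,28,36,34,33],63),
  ([15,22,18,26,24,28,30,28,35,34],63),
  ([8,10,22,20,26,24,28,31],63),
  ([8,8,19,22,18,25,28,29,32,33],63)]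
noncomputable def rT : List (List ℕ × ℕ) := [([0,1,0,1,0,1,0,1],104),
  ([0,1,0,1,0,1,0,1],48),
  ([0,1,0,1,0,1,0,1],24),
  ([0,1,0,1,0,1,0,1],56),
  ([0,0,0,1,0,1,0,0,0,1,0,1,0,0,0,1,0,1,0,0,0,1,0,1,0,0,0,1,0,1],144),
  ([0,0,0,1,0,1,0,0,0,1,0,1,0,0,0,1,0,1,0,0,0,1,0,1,0,0,0,1,0,1],104),
  ([0,0,0,1,0,0,1,0,1,0,0,0,1,0,0,1,0,1,0,0,0,1,0,0,1,0,1,0,0,0,1,0,0,1,0,1,0,0,0,1,0,0,1,0,1],16),
  ([0,0,0,1,0,0,1,0,1,0,0,0,1,0,0,1,0,1,0,0,0,1,0,0,1,0,1,0,0,0,1,0,0,1,0,1,0,0,0,1,0,0,1,0,1],152)]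
noncomputable def uu : List (List ℕ) := [[],
  [8],
  [8,8],
  [8,10,20,27,29,36,35,33],
  [8,12,18,18,26,23,25,29,27,29,31,36,35],
  [9],
  [9,9],
  [9,12,18,18,26,23,25,29,27,29,31,36,35],
  [10,9,18,18,26,23,25,29,27,29,31,36,35],
  [10,20,27,29,36,35,33],
  [11,9,26,24,30,28,33],
  [12,18,18,26,23,25,29,27,29,31,36,35],
  [13,8,23,26,24,29,29,27,36,34,33],
  [13,10,26,23,25,29,29,27,32,36,35,34],
  [13,13,8,18,18,26,23,25,30,27,36,35,34,33],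
  [13,13,21,17,25,30,27,32,36,35],
  [13,22,20,26,30,27,36,33],
  [14,8,8,28,29,31,36,35,34],
  [14,10,18,18,26,24,26,23,30,27,29,36,35],
  [14,22,20,18,24,25,23,25,27,29,32,36,34,33],
  [15,8,21,26,24,30,28,31,34,33],
  [15,12,20,23,26,24,30,27,29,31,35,34,33],
  [15,17,20,23,25,27,31]]
noncomputable def wT : Tr ℕ := (.node (.node (.leaf w0) (.leaf w2)) (.node (.leaf w1) (.leaf w3)))
noncomputable def en : Enum := ⟨inv, 8, 255, 3, fun i => force (Nat.shiftRight i 10) fun c => look 0xffffff (wT.get c) (Nat.mul 24 (Nat.land i 1023)), 10, [8,176,120,104,56,152], 256⟩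
noncomputable def tst : (ℕ → ℕ) → Bool := outTest (appT tabs t65 0xff) bs aK rT [(8, 10)] uu

end Cfsg.Agent.CG.M23
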